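import Cfsg.Agent.Gate.FPFCop
import Cfsg.Agent.Char.DegThompson
import Cfsg.Agent.Char.Camina
import Cfsg.Agent.S4558
import Cfsg.Agent.Local.CharP
import Cfsg.Agent.Cor.OddSol

/-! Consequences of the solvability of groups with a coprime operator group centralising no
involution. -/

set_option autoImplicit false

namespace Cfsg.Lib.FPFC

open Cfsg Cfsg.Agent Subgroup

universe u

variable {G : Type u} [Group G] [Finite G]

theorem solv_aut [Gate.FPFCop.{u}] (A : Subgroup (MulAut G)) (hc : (Nat.card A).Coprime (Nat.card G))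
    (h : ∀ x : G, (∀ φ ∈ A, φ x = x) → x * x = 1 → x = 1) : Group.IsSolvable G := by
  let Γ := G ⋊[A.subtype] A
  have : Finite Γ := Finite.of_equiv _ (SemidirectProduct.equivProd (φ := A.subtype)).symm
  let i : G →* Γ := SemidirectProduct.inl
  let j : A →* Γ := SemidirectProduct.inr
  have e1 : G ≃* i.range := MonoidHom.ofInjective SemidirectProduct.inl_injective
  have e2 : A ≃* j.range := MonoidHom.ofInjective SemidirectProduct.inr_injective
  have : i.range.Normal := by
    rw [SemidirectProduct.range_inl_eq_ker_rightHom]; infer_instance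
  have := Gate.FPFCop.out (G := i.range) (A := j.range) (by rw [normalizer_eq_top]; exact le_top)
    (by rwa [← Nat.card_congr e1.toEquiv, ← Nat.card_congr e2.toEquiv]) (by
      rintro _ ⟨x, rfl⟩ h1 h2
      rw [← map_mul, map_eq_one_iff _ SemidirectProduct.inl_injective] at h2
      rw [h x (fun φ hφ => ?_) h2, map_one]
      have h3 := h1 _ ⟨⟨φ, hφ⟩, rfl⟩
      apply SemidirectProduct.inl_injective (φ := A.subtype)
      have h4 := SemidirectProduct.inl_aut (φ := A.subtype) ⟨φ, hφ⟩ x
      rw [map_inv, eq_comm, mul_inv_eq_iff_eq_mul] at h4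
      exact mul_right_cancel (h4.symm.trans h3))
  exact Group.isSolvable_of_isSolvable_injective (f := e1.toMonoidHom) e1.injective

theorem solv_sup {K A : Subgroup G} (hn : A ≤ normalizer (K : Set G)) (hK : Group.IsSolvable K)
    (hA : Group.IsSolvable A) : Group.IsSolvable ↥(K ⊔ A) := by
  have : (K.subgroupOf (K ⊔ A)).Normal :=
    (normal_subgroupOf_iff_le_normalizer le_sup_left).mpr (sup_le le_normalizer hn)
  have e := subgroupOfEquivOfLe (le_sup_left : K ≤ K ⊔ A)
  refine Cor.isSolvable_of_normal_quotient (K.subgroupOf (K ⊔ A))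
    (Group.isSolvable_of_isSolvable_injective (f := e.toMonoidHom) e.injective) ?_
  refine Group.isSolvable_of_surjective
    (f := (QuotientGroup.mk' _).comp (inclusion (le_sup_right : A ≤ K ⊔ A))) ?_
  intro y
  obtain ⟨⟨y, hy⟩, rfl⟩ := QuotientGroup.mk'_surjective _ y
  have hy' : y ∈ ((K ⊔ A : Subgroup G) : Set G) := hy
  rw [sup_comm, coe_mul_of_left_le_normalizer_right _ _ hn] at hy'
  obtain ⟨a, ha, k, hk, rfl⟩ := hy'
  exact ⟨⟨a, ha⟩, QuotientGroup.eq.mpr (by simpa [mem_subgroupOf] using hk)⟩

/-- If a coset `gN` of a `p`-element lies in one class then `N` has a normal `p`-complement. -/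
theorem coset_coprime {N : Subgroup G} [N.Normal] {p : ℕ} [Fact p.Prime] {g : G}
    (hg : ∃ k, orderOf g = p ^ k) (h : ∀ n ∈ N, IsConj g (g * n)) :
    (Nat.card (Local.resOf p N)).Coprime p := by
  have hp : p.Prime := Fact.out
  have : (Local.resOf p N).Normal := by
    rw [← normalizer_eq_top_iff, eq_top_iff]
    exact (normalizer_eq_top N).ge.trans (Local.normalizer_le_normalizer_resOf N)
  refine (hp.coprime_iff_not_dvd.2 fun h1 => ?_).symm
  have h2 := Char.Deg.not_dvd_index_commutator_pResidual (G := Local.resOf p N) hp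
  have e : pResidual p (Local.resOf p N) = ⊤ := by
    rw [← Local.resOf_subgroupOf, Local.resOf_resOf, subgroupOf_self]
  obtain ⟨χ, hχ, h3, h4⟩ := Char.Deg.relative_thompson hp (Local.resOf p N) h1 (by
    rw [e] at h2
    rwa [← index_map_equiv _ (topEquiv (G := Local.resOf p N)), commutator_def,
      map_commutator, map_top_of_surjective _ topEquiv.surjective] at h2)
  exact h4 (S4558.result p χ hχ.isCharacter g hg (Char.apply_eq_zero_of_isConj_mul h hχ fun c =>
    h3 ((commutator_le_left _ _).trans ((Local.resOf_le N).trans c))))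

theorem coset_solv [Gate.FPFCop.{u}] {N : Subgroup G} [N.Normal] {p : ℕ} [Fact p.Prime] {g : G}
    (hg : ∃ k, orderOf g = p ^ k) (h : ∀ n ∈ N, IsConj g (g * n)) : Group.IsSolvable N := by
  have h1 := coset_coprime hg h
  have h2 : Group.IsSolvable (Local.resOf p N) := by
    obtain ⟨k, hk⟩ := hg
    refine Gate.FPFCop.out (A := zpowers g) (((normalizer_eq_top N).ge.trans
      (Local.normalizer_le_normalizer_resOf N)).trans' le_top)
      (by rw [Nat.card_zpowers, hk]; exact h1.symm.pow_left k) fun x hx hc _ => ?_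
    have hc' : Commute g x := hc g (mem_zpowers g)
    have h3 : (orderOf g).Coprime (orderOf x) := by
      rw [hk]
      exact (h1.symm.pow_left k).coprime_dvd_right (Subgroup.orderOf_dvd_natCard _ hx)
    have h4 := hc'.orderOf_mul_eq_mul_orderOf_of_coprime h3
    obtain ⟨c, hc⟩ := isConj_iff.mp (h x (Local.resOf_le N hx))
    have h5 : orderOf (c * g * c⁻¹) = orderOf g := (MulAut.conj c).orderOf_eq g
    rw [← hc, h5] at h4
    exact orderOf_eq_one_iff.mp (Nat.eq_of_mul_eq_mul_left (orderOf_pos g) (by rw [← h4, mul_one]))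
  have e := subgroupOfEquivOfLe (Local.resOf_le (p := p) N)
  rw [Local.resOf_subgroupOf] at e
  have := (Trans.isPGroup_quotient_pResidual (G := N) (p := p)).isNilpotent
  exact Cor.isSolvable_of_normal_quotient (pResidual p N)
    (Group.isSolvable_of_isSolvable_injective (f := e.toMonoidHom) e.injective) inferInstance

theorem exists_primary {N : Subgroup G} {g : G} (hg : g ∉ N) :
    ∃ p : ℕ, p.Prime ∧ ∃ x ∈ zpowers g, x ∉ N ∧ ∃ k, orderOf x = p ^ k := by
  by_contra c
  push Not at c
  apply hg
  have h0 : orderOf g ≠ 0 := (orderOf_pos g).ne'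
  have key : ∀ p : ℕ, p.Prime → ¬ p ∣ N.relIndex (zpowers g) := by
    intro p hp hd
    have := Fact.mk hp
    obtain ⟨P⟩ : Nonempty (Sylow p (zpowers g)) := inferInstance
    refine P.not_dvd_index (hd.trans (index_dvd_of_le fun x hx => ?_))
    by_contra e
    obtain ⟨k, hk⟩ := (IsPGroup.iff_orderOf.mp P.isPGroup') ⟨x, hx⟩
    exact c p hp x x.2 e k (by simpa using hk)
  exact relIndex_eq_one.mp (Nat.eq_one_iff_not_exists_prime_dvd.mpr key) (mem_zpowers g)

end Cfsg.Lib.FPFC
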