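import Cfsg.Agent.FPFC.Basic
import Cfsg.Agent.Gate.S4319
import Cfsg.Agent.Solv.BHM2
import Cfsg.Agent.Solv.ActionTransport
import Cfsg.Agent.Solv.SectionAut
import Cfsg.Agent.Solv.SylowDirect
import Cfsg.Agent.Solv.Glauberman

/-! Invariant classes of coprime sizes under a coprime action. -/

set_option autoImplicit false

namespace Cfsg.Lib.FPFC

open Cfsg Cfsg.Agent Subgroup Cfsg.Lib.Solv Cfsg.Lib.Solv.ClassSize
open scoped Pointwise commutatorElement

universe u v

variable {G : Type u} {A : Type v} [Group G] [Finite G] [Group A] [Finite A] {φ : A →* MulAut G}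

theorem exists_fix_isConj (hc : (Nat.card A).Coprime (Nat.card G)) (hs : Group.IsSolvable A) {g : G}
    (h : ∀ a, IsConj g (φ a g)) : ∃ x ∈ Act.fix φ ⊤, IsConj g x := by
  let : MulAction (G ⋊[φ] A) G := MulAction.compHom G
    (SemidirectProduct.lift (MulAut.conj (G := G)) φ fun a => by ext; simp)
  have e1 : ∀ k x : G, (SemidirectProduct.inl k : G ⋊[φ] A) • x = k * x * k⁻¹ := fun k x => by
    simp [MulAction.compHom_smul_def]
  have e2 : ∀ (a : A) (x : G), (SemidirectProduct.inr a : G ⋊[φ] A) • x = φ a x := fun k x => by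
    simp [MulAction.compHom_smul_def]
  obtain ⟨_, ⟨k, -, rfl⟩, h1⟩ := glauberman_exists_fixed (Act.L φ ⊤) (Act.R φ ⊤)
    (Act.R_le_normalizer_L_top ⊤) (by rwa [Act.card_L_top, Act.card_R_top])
    (Or.inl (Act.isSolvable_R.mpr inferInstance)) g (by
      rintro _ ⟨a, -, rfl⟩
      obtain ⟨k, hk⟩ := isConj_iff.mp (h a)
      exact ⟨_, ⟨k, mem_top k, rfl⟩, by rw [e1, e2, hk]⟩)
  refine ⟨k * g * k⁻¹, fun a _ => ?_, isConj_iff.mpr ⟨k, rfl⟩⟩
  have := h1 _ ⟨a, mem_top a, rfl⟩
  rwa [e1, e2] at this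

theorem exists_conj_le_cent (hc : (Nat.card A).Coprime (Nat.card G)) (hs : Group.IsSolvable A)
    {p : ℕ} [hp : Fact p.Prime] {P : Subgroup G} (h1 : IsPGroup p P) (h2 : ¬ p ∣ P.relIndex ⊤)
    (h3 : Act.Inv φ ⊤ P) {x : G} (hx : x ∈ Act.fix φ ⊤)
    (h : ¬ p ∣ (centralizer ({x} : Set G)).index) :
    ∃ c ∈ Act.fix φ ⊤, ∀ y ∈ P, c * y * c⁻¹ ∈ centralizer ({x} : Set G) := by
  have hs' : Group.IsSolvable (⊤ : Subgroup A) := inferInstance
  have hc' : ∀ H : Subgroup G, (Nat.card (⊤ : Subgroup A)).Coprime (Nat.card H) := fun H => by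
    rw [card_top]; exact hc.coprime_dvd_right (card_subgroup_dvd_card H)
  obtain ⟨Q, h4, h5, h6, h7⟩ := Act.exists_invariant_sylow (φ := φ) (B := ⊤)
    (H := centralizer ({x} : Set G)) (fun b hb y hy => mem_cent.mpr (by
      rw [← hx b hb, ← map_mul, ← map_mul, mem_cent.mp hy])) (hc' _) (Or.inl hs') p
  obtain ⟨c, h8, e⟩ := Act.invariant_sylow_conj (Act.inv_top ⊤) (hc' _) (Or.inl hs') le_top h1 h2 h3
    le_top h5 (by
      rw [relIndex_top_right, ← relIndex_mul_index h4]
      exact fun c => (hp.out.dvd_mul.mp c).elim h6 h) h7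
  exact ⟨c, h8.2, fun y hy => h4 (e ▸ smul_mem_pointwise_smul y _ P hy)⟩

theorem nil_fix (hc : (Nat.card A).Coprime (Nat.card G)) (hs : Group.IsSolvable A)
    {X Y : G → Prop} {M : Subgroup G} [hM : M.Normal]
    (h1 : ∀ g ∈ Act.fix φ ⊤, (centralizer ({g} : Set G)).index ≠ 1 → X g ∨ Y g)
    (h2 : ∀ g h, X g → Y h →
      (centralizer ({g} : Set G)).index.Coprime (centralizer ({h} : Set G)).index)
    (h3 : ∀ g ∈ Act.fix φ ⊤, g ∉ M → Y g ∧ (centralizer ({g} : Set G)).index ≠ 1)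
    {x : G} (hx : x ∈ Act.fix φ ⊤) (hX : X x) (hx1 : (centralizer ({x} : Set G)).index ≠ 1) :
    Group.IsNilpotent ((Act.fix φ ⊤).map (QuotientGroup.mk' M)) := by
  set C := Act.fix φ ⊤ with hC
  obtain ⟨q, hq, z, hz, hz1, k, hk⟩ := exists_primary (mt index_cent_eq_one_iff.mpr hx1)
  rw [← index_cent_eq_one_iff] at hz1
  have hzC : z ∈ C := zpowers_le.mpr hx hz
  have hZ : X z := (h1 z hzC hz1).resolve_right fun c =>
    hz1 ((h2 x z hX c).symm.eq_one_of_dvd (index_cent_dvd_of_mem_zpowers hz))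
  have hs' : Group.IsSolvable (⊤ : Subgroup A) := inferInstance
  have := Fact.mk hq
  let f : C →* C.map (QuotientGroup.mk' M) := (QuotientGroup.mk' M).subgroupMap C
  have hf : Function.Surjective f := MonoidHom.subgroupMap_surjective _ _
  refine of_quotient_center_nilpotent (IsPGroup.isNilpotent (p := q) (IsPGroup.of_card
    (Nat.eq_prime_pow_of_unique_prime_dvd Nat.card_pos.ne' fun {r} hr hd => ?_)))
  by_contra hrq
  have := Fact.mk hr
  obtain ⟨R⟩ : Nonempty (Sylow r C) := inferInstance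
  refine R.not_dvd_index (hd.trans ?_)
  rw [← index_eq_card, ← index_comap_of_surjective _ hf]
  refine index_dvd_of_le fun w hw => ?_
  have hw' : IsPGroup r (zpowers (w : G)) :=
    (R.isPGroup'.map C.subtype).to_le (zpowers_le.mpr ⟨w, hw, rfl⟩)
  obtain ⟨P, h4, -, h5, h6, h7⟩ := Act.exists_le_invariant_sylow (φ := φ) (Act.inv_top ⊤)
    (by rwa [card_top, card_top]) (Or.inl hs') le_top hw' fun b hb y hy => by
      rwa [zpowers_le.mpr w.2 hy b hb]
  have h8 := h4 (mem_zpowers _)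
  suffices h : ∀ c : C, ⁅(c : G), (w : G)⁆ ∈ M by
    refine mem_center_iff.mpr fun c => ?_
    obtain ⟨c, rfl⟩ := hf c
    refine Subtype.ext (commutatorElement_eq_one_iff_mul_comm.mp ?_)
    exact (map_commutatorElement (QuotientGroup.mk' M) _ _).symm.trans
      ((QuotientGroup.eq_one_iff _).mpr (h c))
  by_cases hd : r ∣ (centralizer ({z} : Set G)).index
  · have e : (centralizer (P : Set G) ⊔ M).subgroupOf C = ⊤ :=
      eq_top_of_forall_exists_conj_mem fun g => by
        by_cases hg : (g : G) ∈ M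
        · exact ⟨1, mem_sup_right (by simpa using hg)⟩
        obtain ⟨c, h9, h10⟩ := exists_conj_le_cent hc hs h5 h6 h7 g.2 fun c =>
          hr.one_lt.ne' (Nat.eq_one_of_dvd_coprimes (h2 z g hZ (h3 g g.2 hg).1) hd c)
        refine ⟨⟨c, h9⟩⁻¹, mem_sup_left fun y hy => ?_⟩
        have := mem_cent.mp (h10 y hy)
        calc y * (c⁻¹ * g * c⁻¹⁻¹) = c⁻¹ * (c * y * c⁻¹ * g) * c := by group
          _ = c⁻¹ * g * c⁻¹⁻¹ * y := by rw [this]; group
    intro c
    obtain ⟨a, ha, m, hm, e⟩ := mem_sup_of_normal_right.mp (e.ge (mem_top c))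
    have e' : ⁅(c : G), (w : G)⁆ = a * (m * (w * m⁻¹ * (w : G)⁻¹)) * a⁻¹ := by
      calc ⁅(c : G), (w : G)⁆ = a * (m * (w * m⁻¹)) * ((w : G) * a)⁻¹ := by
            rw [← show a * m = c from e, commutatorElement_def]; group
        _ = _ := by rw [ha w h8]; group
    rw [e']
    exact hM.conj_mem _ (M.mul_mem hm (hM.conj_mem _ (M.inv_mem hm) _)) _
  · obtain ⟨c, h9, h10⟩ := exists_conj_le_cent hc hs h5 h6 h7 hzC hd
    have h11 : c * w * c⁻¹ ∈ C := C.mul_mem (C.mul_mem h9 w.2) (C.inv_mem h9)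
    have h12 : c * w * c⁻¹ ∈ M := by
      by_contra h13
      obtain ⟨h14, h15⟩ := h3 _ h11 h13
      have h16 : Commute z (c * w * c⁻¹) := (mem_cent.mp (h10 w h8)).symm
      have h17 : (orderOf z).Coprime (orderOf (c * w * c⁻¹)) := by
        obtain ⟨j, hj⟩ := hw'.exists_card_eq
        rw [show orderOf (c * w * c⁻¹) = orderOf (w : G) from (MulAut.conj c).orderOf_eq _,
          ← Nat.card_zpowers (w : G), hj, hk]
        exact ((Nat.coprime_primes hq hr).mpr (Ne.symm hrq)).pow _ _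
      have h18 := index_cent_dvd_mul_left h16 h17
      rcases h1 _ (C.mul_mem hzC h11) fun e => hz1 (Nat.dvd_one.mp (e ▸ h18)) with h | h
      · exact h15 ((h2 _ _ h h14).symm.eq_one_of_dvd (index_cent_dvd_mul_right h16 h17))
      · exact hz1 ((h2 _ _ hZ h).eq_one_of_dvd h18)
    have h13 : (w : G) ∈ M := by simpa [mul_assoc] using hM.conj_mem _ h12 c⁻¹
    exact fun g => M.mul_mem (hM.conj_mem _ h13 g) (M.inv_mem h13)

theorem solv_of_split [Gate.S4319.{v, u}] (hc : (Nat.card A).Coprime (Nat.card G))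
    (hs : Group.IsSolvable A) {X Y : G → Prop}
    (h1 : ∀ g ∈ Act.fix φ ⊤, (centralizer ({g} : Set G)).index ≠ 1 → X g ∨ Y g)
    (h2 : ∀ g h, X g → Y h →
      (centralizer ({g} : Set G)).index.Coprime (centralizer ({h} : Set G)).index)
    {x : G} (hx : x ∈ Act.fix φ ⊤) (hX : X x) (hx1 : (centralizer ({x} : Set G)).index ≠ 1)
    {y : G} (hy : y ∈ Act.fix φ ⊤) (hY : Y y) (hmax : ∀ g ∈ Act.fix φ ⊤,
      (centralizer ({g} : Set G)).index ≤ (centralizer ({y} : Set G)).index) :
    Group.IsSolvable G := by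
  let K := piCore {p | p ∣ (centralizer ({y} : Set G)).index} G
  have := Characteristic.comap_quotient_mk (H := K) (K := center (G ⧸ K)) inferInstance
  let M := (center (G ⧸ K)).comap (QuotientGroup.mk' K) ⊓ centralizer (K : Set G)
  have hM : ∀ a, ∀ x ∈ M, φ a x ∈ M := fun a x hx =>
    characteristic_iff_le_comap.mp inferInstance (φ a) hx
  have hmem : ∀ g : G, g ∈ (center (G ⧸ K)).comap (QuotientGroup.mk' K) ↔ ∀ t, ⁅t, g⁆ ∈ K :=
    fun g => by
      simp only [mem_comap, mem_center_iff, (QuotientGroup.mk'_surjective K).forall,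
        ← commutatorElement_eq_one_iff_mul_comm, ← map_commutatorElement]
      exact forall_congr' fun t => QuotientGroup.eq_one_iff _
  have h3 := nil_fix (M := M) hc hs h1 h2 (fun g hg h4 => by
    have h5 : ¬ (centralizer ({g} : Set G)).index.Coprime (centralizer ({y} : Set G)).index :=
      fun c => by
        obtain ⟨L, h6, h7, h8⟩ := exists_normal_of_index_mul_le c (hmax _ (mul_mem hg hy))
        refine h4 ⟨(hmem g).mpr fun t => le_piCore h6 (fun p _ e => e.trans h7) (h8 t),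
          le_cent_iff.mp (le_cent_of_coprime ((isPiNum_card_piCore _ G).coprime
            (isPiNum_compl_setOf_dvd_iff.mpr c)))⟩
    have h6 : (centralizer ({g} : Set G)).index ≠ 1 := fun e => h5 (by simp [e])
    exact ⟨(h1 g hg h6).resolve_left fun c => h5 (h2 g y c hY), h6⟩) hx hX hx1
  let : MulDistribMulAction A (G ⧸ M) := MulDistribMulAction.compHom _ (Coprime.quotAut φ M hM)
  have h4 : FixedPoints.subgroup A (G ⧸ M) ≤ (Act.fix φ ⊤).map (QuotientGroup.mk' M) :=
    fun g hg => by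
      obtain ⟨g, rfl⟩ := QuotientGroup.mk_surjective g
      obtain ⟨m, h5, h6⟩ := Act.exists_mul_mem_fix (φ := φ) (B := ⊤) (H := M) (fun a _ => hM a)
        (by rw [card_top]; exact hc.coprime_dvd_right (card_subgroup_dvd_card M))
        (Or.inl inferInstance) (g := g) fun a _ => QuotientGroup.eq.mp (hg a).symm
      exact ⟨_, h6, QuotientGroup.mk_mul_of_mem g h5⟩
  refine Cor.isSolvable_of_normal_quotient M ?_ (Gate.S4319.out (A := A)
    (hc.symm.coprime_dvd_left (card_quotient_dvd_card M))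
    (Or.inl (Group.nilpotent_of_mulEquiv (subgroupOfEquivOfLe h4))))
  have h5 : commutator M ≤ center M := commutator_le.mpr fun a _ b _ =>
    mem_center_iff.mpr fun t => Subtype.ext (t.2.2 _ ((hmem b).mp b.2.1 a)).symm
  exact Cor.isSolvable_of_normal_quotient (center M) (Coprime.isSolvable_of_isMulCommutative _)
    (Group.isSolvable_of_comm (Normal.quotient_commutative_iff_commutator_le.mpr h5).is_comm.comm)

end Cfsg.Lib.FPFC
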