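import Cfsg.Agent.FPFC.Basic
import Cfsg.Agent.Solv.ClassSize
import Cfsg.Agent.Solv.CoprimeFixed
import Cfsg.Agent.Alex.TI

/-! Class sizes of primary elements of a normal subgroup. -/

set_option autoImplicit false

namespace Cfsg.Lib.FPFC

open Cfsg Cfsg.Agent Subgroup Cfsg.Lib.Solv

universe u

variable {G : Type u} [Group G] [Finite G]

theorem dvd_index_of_primary {N : Subgroup G} {m : ℕ}
    (h : ∀ x : G, x ∈ N → (∃ y ∈ N, x * y ≠ y * x) → IsPrimePow (orderOf x) →
      m ∣ (centralizer ({x} : Set G)).index) {x : G} (hx : x ∈ N)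
    (hc : x ∉ centralizer (N : Set G)) : m ∣ (centralizer ({x} : Set G)).index := by
  obtain ⟨p, hp, y, hy, h1, k, hk⟩ := exists_primary hc
  refine (h y (zpowers_le.mpr hx hy) ?_ ?_).trans (ClassSize.index_cent_dvd_of_mem_zpowers hy)
  · by_contra c
    push Not at c
    exact h1 fun z hz => (c z hz).symm
  · refine ⟨p, k, hp.prime, Nat.pos_of_ne_zero ?_, hk.symm⟩
    rintro rfl
    rw [pow_zero, orderOf_eq_one_iff] at hk
    exact h1 (hk ▸ one_mem _)

theorem card_center_eq (N : Subgroup G) :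
    Nat.card (center N) = Nat.card ↥(N ⊓ centralizer (N : Set G)) := by
  rw [← card_map_of_injective (K := center N) N.subtype_injective]
  congr 2
  ext x
  constructor
  · rintro ⟨y, hy, rfl⟩
    exact ⟨y.2, fun z hz => congrArg Subtype.val (mem_center_iff.mp hy ⟨z, hz⟩)⟩
  · rintro ⟨h1, h2⟩
    exact ⟨⟨x, h1⟩, mem_center_iff.mpr fun z => Subtype.ext (h2 z z.2), rfl⟩

theorem dvd_card_center_mul {N : Subgroup G} [hN : N.Normal] {m : ℕ}
    (h : ∀ x ∈ N, x ∉ centralizer (N : Set G) → m ∣ (centralizer ({x} : Set G)).index) :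
    m ∣ Nat.card (center N) * ((center N).index - 1) := by
  have h1 := Alex.dvd_ncard_conj (⊤ : Subgroup G)
    (X := (N : Set G) \ ((N ⊓ centralizer (N : Set G) : Subgroup G) : Set G)) (m := m)
    (fun g _ x hx => ⟨hN.conj_mem x hx.1 g, fun c => hx.2 (by
      have := (inferInstance : (N ⊓ centralizer (N : Set G)).Normal).conj_mem _ c g⁻¹
      simpa [mul_assoc] using this)⟩)
    (fun x hx => by rw [relIndex_top_right]; exact h x hx.1 fun c => hx.2 ⟨hx.1, c⟩)
  rw [Set.ncard_diff (by exact (inf_le_left : N ⊓ centralizer (N : Set G) ≤ N)),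
    ← Nat.card_coe_set_eq, ← Nat.card_coe_set_eq] at h1
  rw [Nat.mul_sub_one, card_mul_index, card_center_eq]
  exact h1

theorem solv_of_not_dvd [Gate.FPFCop.{u}] {N P : Subgroup G} [N.Normal] {p : ℕ} [hp : Fact p.Prime]
    (hP : IsPGroup p P) (hd : ¬ p ∣ (center N).index)
    (h : N ⊓ centralizer (P : Set G) ≤ centralizer (N : Set G)) : Group.IsSolvable N := by
  have hle : ⁅N, N⁆ ≤ N := commutator_le_left _ _
  have e := subgroupOfEquivOfLe hle
  have e0 : (⁅N, N⁆ : Subgroup G).subgroupOf N = commutator N := by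
    rw [← map_subtype_inj (H := N), subgroupOf_map_subtype, inf_eq_left.mpr hle, commutator_def,
      map_commutator, ← MonoidHom.range_eq_map, range_subtype]
  rw [e0] at e
  have hc : (Nat.card P).Coprime (Nat.card ↥⁅N, N⁆) := by
    obtain ⟨k, hk⟩ := hP.exists_card_eq
    rw [hk, ← Nat.card_congr e.toEquiv]
    exact (((hp.out.coprime_iff_not_dvd.mpr hd).pow _ _).coprime_dvd_right
      (card_commutator_dvd_index_center_pow N))
  have hn : P ≤ normalizer ((⁅N, N⁆ : Subgroup G) : Set G) := by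
    rw [normalizer_eq_top]; exact le_top
  let Z : Subgroup G := N ⊓ centralizer (N : Set G)
  have hZ : Group.IsSolvable Z := by
    have : IsMulCommutative Z := ⟨⟨fun a b => Subtype.ext (b.2.2 a a.2.1)⟩⟩
    exact Coprime.isSolvable_of_isMulCommutative Z
  have h1 := Coprime.map_inf_centralizer (QuotientGroup.mk' Z) hn hc
    (Or.inl (Coprime.isSolvable_of_isPGroup hP))
  have h2 : (⁅N, N⁆ ⊓ centralizer (P : Set G)).map (QuotientGroup.mk' Z) = ⊥ := by
    rw [Subgroup.map_eq_bot_iff, QuotientGroup.ker_mk']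
    exact le_inf (inf_le_left.trans hle) ((inf_le_inf_right _ hle).trans h)
  have h3 : Group.IsSolvable ((⁅N, N⁆ : Subgroup G).map (QuotientGroup.mk' Z)) := by
    have := (inferInstance : (⁅N, N⁆ : Subgroup G).Normal).map _ (QuotientGroup.mk'_surjective Z)
    refine Gate.FPFCop.out (A := P.map (QuotientGroup.mk' Z))
      (by rw [normalizer_eq_top]; exact le_top)
      ((hc.coprime_dvd_left (Subgroup.card_map_dvd _ _)).coprime_dvd_right
        (Subgroup.card_map_dvd _ _))
      fun x h4 h5 _ => ?_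
    exact mem_bot.mp ((h1.symm.trans h2).le ⟨h4, h5⟩)
  have h4 := ClassSize.isSolvable_of_map_mk' Z _ h3
  exact Cor.isSolvable_of_normal_quotient (commutator N)
    (Group.isSolvable_of_isSolvable_injective (f := e.toMonoidHom) e.injective)
    (inferInstanceAs (Group.IsSolvable (Abelianization N)))

theorem inf_cent_sylow_le {N : Subgroup G} {p : ℕ} [Fact p.Prime] (P : Sylow p G)
    (h : ∀ x ∈ N, x ∉ centralizer (N : Set G) → p ∣ (centralizer ({x} : Set G)).index) :
    N ⊓ centralizer (P : Set G) ≤ centralizer (N : Set G) := fun x hx => by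
  by_contra c
  exact ClassSize.not_dvd_index_of_sylow_le P (ClassSize.le_cent_iff.mpr hx.2) (h x hx.1 c)

end Cfsg.Lib.FPFC
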