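import Cfsg.Agent.FPFC.EspChar
import Cfsg.Agent.FPFC.Cls
import Cfsg.Agent.Solv.KMSMain
import Cfsg.Agent.Solv.FitTower
import Cfsg.Agent.Trans.Thompson

/-! Fixed points of the top of `F R`, `F` extraspecial and fixed-point-free. -/

set_option autoImplicit false

namespace Cfsg.Lib.FPFC

open Cfsg.Agent Subgroup Cfsg.Lib.Solv Cfsg.Lib.FT Cfsg.Lib.Solv.FH
open scoped Pointwise commutatorElement

universe u

structure EH {Γ : Type u} [Group Γ] (s : ℕ) (X F R : Subgroup Γ) : Prop where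
  sol : Group.IsSolvable X
  hR : (Nat.card R).Prime
  pg : IsPGroup s F
  FX : F ≤ 𝐍 X
  RX : R ≤ 𝐍 X
  RF : R ≤ 𝐍 F
  cFX : (Nat.card F).Coprime (Nat.card X)
  cRX : (Nat.card R).Coprime (Nat.card X)
  cRF : (Nat.card R).Coprime (Nat.card F)
  fpf : X ⊓ 𝐂 F = ⊥
  esp : Esp F
  comm : ⁅F, R⁆ = F

namespace EH

variable {Γ : Type u} [Group Γ] [Finite Γ] {s : ℕ} {X F R : Subgroup Γ}

theorem solR (h : EH s X F R) : Group.IsSolvable R :=
  have := Tur.isMulCommutative_of_prime h.hR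
  Coprime.isSolvable_of_isMulCommutative R

theorem cent (h : EH s X F R) : F ⊓ 𝐂 R ≤ F ⊓ 𝐂 F := by
  refine le_inf inf_le_left (le_trans ?_ h.esp.der)
  have := commutator_inf_centralizer_le h.RF h.cRF
  rwa [h.comm] at this

theorem map_cent (h : EH s X F R) {Δ : Type u} [Group Δ] (f : Γ →* Δ) :
    (X ⊓ 𝐂 R).map f = X.map f ⊓ 𝐂 (R.map f) :=
  Coprime.map_inf_centralizer f h.RX h.cRX (Or.inr h.sol)

theorem map [Fact s.Prime] (h : EH s X F R) {Δ : Type u} [Group Δ] [Finite Δ] (f : Γ →* Δ)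
    (hf : f.ker ≤ X) : EH s (X.map f) (F.map f) (R.map f) := by
  have := h.sol
  have hF : F ⊓ f.ker = ⊥ :=
    le_bot_iff.mp ((inf_le_inf_left _ hf).trans (inf_eq_bot_of_coprime h.cFX).le)
  have hR : R ⊓ f.ker = ⊥ :=
    le_bot_iff.mp ((inf_le_inf_left _ hf).trans (inf_eq_bot_of_coprime h.cRX).le)
  have c : ∀ {A B : Subgroup Γ}, (Nat.card A).Coprime (Nat.card B) →
      (Nat.card (A.map f)).Coprime (Nat.card (B.map f)) := fun c =>
    (c.coprime_dvd_left (Subgroup.card_map_dvd _ _)).coprime_dvd_right (Subgroup.card_map_dvd _ _)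
  have n : ∀ {A B : Subgroup Γ}, A ≤ 𝐍 B → A.map f ≤ 𝐍 (B.map f) := fun n =>
    (map_mono n).trans (le_normalizer_map f)
  have e := Coprime.map_inf_centralizer' f (A := F) (K := F) le_normalizer (by simp [hF])
    (Or.inl (Coprime.isSolvable_of_isPGroup h.pg))
  refine ⟨ClassSize.isSolvable_map' f X, by rw [Trans.TJ.card_map_of_injOn hR]; exact h.hR,
    h.pg.map f, n h.FX, n h.RX, n h.RF, c h.cFX, c h.cRX, c h.cRF, ?_, ⟨?_, ?_⟩, ?_⟩
  · rw [← Coprime.map_inf_centralizer f h.FX h.cFX (Or.inr h.sol), h.fpf, Subgroup.map_bot]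
  · rw [← e, Trans.TJ.card_map_of_injOn
      (le_bot_iff.mp ((inf_le_inf_right _ inf_le_left).trans hF.le))]
    exact h.esp.prime
  · rw [← map_commutator]
    exact (map_mono (le_inf (commutator_le_left_of_le_normalizer le_normalizer) h.esp.der)).trans
      (e.le.trans inf_le_right)
  · rw [← map_commutator, h.comm]

theorem subgroupOf (h : EH s X F R) {L : Subgroup Γ} (hX : X ≤ L) (hF : F ≤ L) (hR : R ≤ L) :
    EH s (X.subgroupOf L) (F.subgroupOf L) (R.subgroupOf L) := by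
  have := h.sol
  have i := L.subtype_injective
  refine ⟨Group.isSolvable_of_isSolvable_injective (f := (subgroupOfEquivOfLe hX).toMonoidHom)
    (subgroupOfEquivOfLe hX).injective, by rw [card_subgroupOf_of_le hR]; exact h.hR,
    h.pg.comap_subtype, le_normalizer_subgroupOf_of_le L hX h.FX,
    le_normalizer_subgroupOf_of_le L hX h.RX, le_normalizer_subgroupOf_of_le L hF h.RF,
    by rw [card_subgroupOf_of_le hF, card_subgroupOf_of_le hX]; exact h.cFX,
    by rw [card_subgroupOf_of_le hR, card_subgroupOf_of_le hX]; exact h.cRX,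
    by rw [card_subgroupOf_of_le hR, card_subgroupOf_of_le hF]; exact h.cRF,
    by rw [subgroupOf_inf_centralizer hF, h.fpf, bot_subgroupOf], ⟨?_, ?_⟩, ?_⟩
  · rw [subgroupOf_inf_centralizer hF, card_subgroupOf_of_le (inf_le_left.trans hF)]
    exact h.esp.prime
  · refine le_trans ?_ ((subgroupOf_inf_centralizer (K := F) hF).ge.trans inf_le_right)
    refine map_le_iff_le_comap.mp ?_
    rw [map_commutator, map_subgroupOf_eq_of_le hF]
    exact le_inf (commutator_le_left_of_le_normalizer le_normalizer) h.esp.der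
  · apply map_injective i
    rw [map_commutator, map_subgroupOf_eq_of_le hF, map_subgroupOf_eq_of_le hR, h.comm]

theorem le_cent_opF (h : EH s X F R) [X.Normal] {q : ℕ} [hq : Fact q.Prime] {T : Subgroup Γ}
    (hT : IsPGroup q T) (h1 : T ≤ X ⊓ 𝐂 R) (h2 : X ⊓ 𝐂 R ≤ 𝐍 T) : T ≤ 𝐂 (opF q X) := by
  have hM : opF q X ≤ X := opF_le q X
  obtain ⟨Q, hQX, hQ, hi, hn⟩ := Coprime.exists_invariant_sylow' (A := F ⊔ R) (sup_le h.FX h.RX)
    (coprime_card_sup h.RF h.cFX.symm h.cRX.symm).symm (Or.inr h.sol) q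
  obtain ⟨P, hTP, hPX, hP, hj, hm⟩ := Coprime.exists_le_invariant_sylow' h.RX h.cRX (Or.inr h.sol)
    (h1.trans inf_le_left) hT
    (le_normalizer_of_le_centralizer (le_centralizer_iff.mp (h1.trans inf_le_right)))
  obtain ⟨c, hc, e⟩ := Coprime.invariant_sylow_conj' h.RX h.cRX (Or.inr h.sol) hPX hP hj hm hQX hQ
    hi (le_sup_right.trans hn)
  have hTQ : T ≤ Q := by
    rw [← e, ← conj_smul_eq_of_mem_normalizer (h2 hc)]
    exact pointwise_smul_le_pointwise_smul_iff.mpr hTP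
  have cq : ∀ {U : Subgroup Γ}, IsPGroup q U → (Nat.card (opF q X)).Coprime (Nat.card U) :=
    fun hU => by
      obtain ⟨k, hk⟩ := hU.exists_card_eq
      rw [hk]
      exact (coprime_card_opF q X).pow_right k
  have := opF_isNilpotent q X
  refine le_centralizer_of_fix h.hR (le_sup_left.trans hn) (le_sup_right.trans hn) h.RF
    hQ.isNilpotent (h.cFX.coprime_dvd_right (card_dvd_of_le hQX))
    (h.cRX.coprime_dvd_right (card_dvd_of_le hQX)) h.cRF
    (le_bot_iff.mp ((inf_le_inf_right _ hQX).trans h.fpf.le)) (fun S hS h0 => ?_)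
    (le_inf hTQ (h1.trans inf_le_right)) (le_normalizer_of_normal _ _)
    (le_normalizer_of_normal _ _) (le_normalizer_of_normal _ _) inferInstance (cq hQ)
    (h.cFX.coprime_dvd_right (card_dvd_of_le hM)).symm
    (h.cRX.coprime_dvd_right (card_dvd_of_le hM)).symm
    (le_bot_iff.mp ((inf_le_inf_right _ hM).trans h.fpf.le)) ?_
  · exact le_antisymm hS
      (h.cent.trans (Tur.eq_of_ne_bot_of_prime h.esp.prime (hS.trans h.cent) h0).ge)
  · rw [← commutator_eq_bot_iff_le_centralizer, eq_bot_iff, ← inf_eq_bot_of_coprime (cq hT)]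
    exact le_inf ((commutator_mono inf_le_left le_rfl).trans (commutator_le_left _ _))
      (commutator_le_right_of_le_normalizer ((inf_le_inf_right _ hM).trans h2))

theorem le_fit [Fact s.Prime] {q : ℕ} [Fact q.Prime] (Γ : Type u) [Group Γ] [Finite Γ] :
    ∀ (X F R T : Subgroup Γ) [X.Normal], EH s X F R → IsPGroup q T → T ≤ X ⊓ 𝐂 R →
      X ⊓ 𝐂 R ≤ 𝐍 T → T ≤ fittingOf X := by
  refine card_induction (P := fun Γ _ _ => ∀ (X F R T : Subgroup Γ) [X.Normal], EH s X F R →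
    IsPGroup q T → T ≤ X ⊓ 𝐂 R → X ⊓ 𝐂 R ≤ 𝐍 T → T ≤ fittingOf X) ?_ Γ
  intro Γ _ _ ih X F R T _ h hT h1 h2
  by_cases h0 : X = ⊥
  · exact h1.trans (inf_le_left.trans (h0.le.trans bot_le))
  have := h.sol
  have := (inferInstance : X.Normal).map _ (QuotientGroup.mk'_surjective (fittingOf X))
  refine le_fittingOf_of_le_centralizer_opF hT (h1.trans inf_le_left) ?_ (h.le_cent_opF hT h1 h2)
  refine ih _ (card_quotient_lt (fittingOf_ne_bot h0)) _ _ _ _
    (h.map _ (by rw [QuotientGroup.ker_mk']; exact fittingOf_le X)) (hT.map _) ?_ ?_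
  · rw [← h.map_cent]; exact map_mono h1
  · rw [← h.map_cent]; exact (map_mono h2).trans (le_normalizer_map _)

theorem fit_le [Fact s.Prime] (h : EH s X F R) [X.Normal] : fittingOf (X ⊓ 𝐂 R) ≤ fittingOf X :=
  fittingOf_le_of_forall_pCore_le fun p _ => le_fit (q := p) Γ X F R _ h
    ((pCore_isPGroup p _).map _) (map_subtype_le _) (by
      have := le_normalizer_map (H := pCore p ↥(X ⊓ 𝐂 R)) (X ⊓ 𝐂 R).subtype
      rwa [normalizer_eq_top, ← MonoidHom.range_eq_map, range_subtype] at this)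

theorem eq_bot [hs : Fact s.Prime] (h : EH s X F R) (hr : ¬ ∃ k : ℕ, Nat.card R = 2 ^ k + 1)
    (h0 : X ⊓ 𝐂 R = ⊥) : X = ⊥ := by
  by_cases hZ : X ≤ 𝐂 (F ⊓ 𝐂 F)
  · have := wielandt_mod_cent h.RF h.cRF (fun x hx hx1 => by
      rw [centralizer_eq_of_prime h.hR hx hx1]
      exact h.cent.trans (le_centralizer_iff.mp hZ)) h.sol h.FX h.RX h.cFX.symm h.cRX.symm h0
    exact le_bot_iff.mp ((le_inf le_rfl (le_centralizer_iff.mp this)).trans h.fpf.le)
  obtain ⟨h1, d, h2, h3⟩ := Tur.esp_count h.esp h.hR h.RF h.cRF h.FX h.RX h.sol h.cFX.symm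
    h.cRX.symm h0 hZ
  rw [h.comm] at h2
  exfalso
  rcases h3 with rfl | h3
  · have e : F ⊓ 𝐂 F = F := inf_eq_left.mpr (relIndex_eq_one.mp h2)
    have h4 := h.esp.prime
    rw [e] at h1 h4
    rw [← h.comm, commutator_eq_bot_iff_le_centralizer.mpr (le_centralizer_iff.mp h1),
      Subgroup.card_bot] at h4
    exact Nat.not_prime_one h4
  obtain ⟨k, hk⟩ := h.pg.exists_card_eq
  obtain ⟨j, -, rfl⟩ := (Nat.dvd_prime_pow hs.out).mp ((dvd_pow_self d two_ne_zero).trans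
    (h2 ▸ hk ▸ relIndex_dvd_card _ _))
  rcases hs.out.eq_two_or_odd' with rfl | h4
  · exact hr ⟨j, h3.symm⟩
  · exact hr ⟨0, h.hR.even_iff.mp (h3 ▸ h4.pow.add_one)⟩

theorem iter_eq_bot [Fact s.Prime] (n : ℕ) : ∀ (Γ : Type u) [Group Γ] [Finite Γ]
    (X F R : Subgroup Γ) [X.Normal], EH s X F R → (¬ ∃ k : ℕ, Nat.card R = 2 ^ k + 1) →
      nilRes^[n] (X ⊓ 𝐂 R) = ⊥ → nilRes^[n] X = ⊥ := by
  induction n with
  | zero => exact fun _ _ _ _ _ _ _ h hr h0 => h.eq_bot hr h0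
  | succ n ih =>
    intro Γ _ _ X F R _ h hr h0
    have := (inferInstance : X.Normal).map _ (QuotientGroup.mk'_surjective (fittingOf X))
    have h1 := h.map (QuotientGroup.mk' (fittingOf X))
      (by rw [QuotientGroup.ker_mk']; exact fittingOf_le X)
    refine iter_succ_eq_bot_iff_map.mpr (ih _ _ _ _ h1 ?_ ?_)
    · rwa [((Nat.dvd_prime h.hR).mp (Subgroup.card_map_dvd R _)).resolve_left h1.hR.one_lt.ne']
    · rw [← h.map_cent, ← iter_le_iff_map]
      exact (iter_succ_eq_bot_iff.mp h0).trans h.fit_le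

theorem fit_le' [Fact s.Prime] (h : EH s X F R) : fittingOf (X ⊓ 𝐂 R) ≤ fittingOf X := by
  have := normal_subgroupOf_of_le (le_rfl : 𝐍 X ≤ 𝐍 X)
  have h1 := map_mono (f := (𝐍 X).subtype) (h.subgroupOf le_normalizer h.FX h.RX).fit_le
  rwa [subgroupOf_inf_centralizer h.RX, map_fittingOf_subgroupOf le_normalizer,
    map_fittingOf_subgroupOf (inf_le_left.trans le_normalizer)] at h1

theorem iter_iff [Fact s.Prime] (h : EH s X F R) (hr : ¬ ∃ k : ℕ, Nat.card R = 2 ^ k + 1) (n : ℕ) :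
    nilRes^[n] X = ⊥ ↔ nilRes^[n] (X ⊓ 𝐂 R) = ⊥ := by
  refine ⟨fun e => le_bot_iff.mp ((iter_mono n inf_le_left).trans e.le), fun e => ?_⟩
  have := normal_subgroupOf_of_le (le_rfl : 𝐍 X ≤ 𝐍 X)
  refine (iter_subgroupOf_eq_bot_iff le_normalizer).mp (iter_eq_bot n _ _ _ _
    (h.subgroupOf le_normalizer h.FX h.RX) (by rwa [card_subgroupOf_of_le h.RX]) ?_)
  rwa [subgroupOf_inf_centralizer h.RX, iter_subgroupOf_eq_bot_iff (inf_le_left.trans le_normalizer)]

theorem of_esp [Gate.FPFCop.{u}] [hs : Fact s.Prime] (hr : (Nat.card R).Prime)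
    (hF : IsExtraspecial s F) (hRF : R ≤ 𝐍 F) (hcomm : ⁅F, R⁆ = F) (hRX : R ≤ 𝐍 X) (hFX : F ≤ 𝐍 X)
    (hcop : ¬ Nat.card R ∣ Nat.card X) (hCF : X ⊓ 𝐂 F = ⊥) : EH s X F R := by
  obtain ⟨⟨pg, -, h1⟩, h2⟩ := hF
  obtain ⟨k, hk⟩ := pg.exists_card_eq
  have c : (Nat.card F).Coprime (Nat.card X) := by
    rw [hk]
    refine (hs.out.coprime_iff_not_dvd.mpr fun c => ?_).pow_left k
    obtain ⟨T, h3, h4, -⟩ := KMS.exists_fixed pg hFX c
    exact h4 (le_bot_iff.mp (h3.trans hCF.le))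
  rw [card_center_eq] at h2
  refine ⟨Gate.FPFCop.out hFX c fun x h3 h4 _ => mem_bot.mp (hCF.le ⟨h3, h4⟩), hr, pg, hFX, hRX, hRF,
    c, hr.coprime_iff_not_dvd.mpr hcop, ?_, hCF, ⟨h2 ▸ hs.out, ?_⟩, hcomm⟩
  · rw [hk]
    refine ((Nat.coprime_primes hr hs.out).mpr fun e => ?_).pow_right k
    refine (PG.commutator_lt (IsPGroup.of_card (n := 1) (by rw [e, pow_one])) pg hRF ?_).ne hcomm
    rintro rfl
    rw [bot_inf_eq, Subgroup.card_bot] at h2
    exact hs.out.one_lt.ne h2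
  · refine commutator_le.mpr fun a ha b hb y hy => congrArg Subtype.val (mem_center_iff.mp
      (h1.le (commutator_mem_commutator (mem_top (⟨a, ha⟩ : F)) (mem_top ⟨b, hb⟩))) ⟨y, hy⟩)

end EH

end Cfsg.Lib.FPFC
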