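import Cfsg.Agent.Solv.TurChar
import Cfsg.Agent.Char.BrauerApps
import Cfsg.Agent.Solv.PGroupBasic

/-! Characters of `Q F R` without `F`-fixed vectors, `R` of prime order with `C_F(R)` small. -/

set_option autoImplicit false

namespace Cfsg.Lib.FPFC

open Subgroup Cfsg.Lib.Solv Cfsg.Lib.FT Cfsg.Lib.Char Cfsg.Lib.Solv.FH
open scoped Pointwise commutatorElement

universe u v

variable {Γ : Type u} [Group Γ] [Finite Γ]

theorem cfix_anti {χ : Γ → ℂ} (hχ : IsCharacter Γ χ) {D E : Subgroup Γ} (h : D ≤ E) :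
    ∃ a b : ℕ, cfix χ E = a ∧ cfix χ D = a + b := by
  obtain ⟨n, ρ, rfl⟩ := hχ
  obtain ⟨b, hb⟩ := Nat.exists_eq_add_of_le (Submodule.finrank_mono (fixSp_anti ρ h))
  exact ⟨fixDim ρ E, b, cfix_character ρ E, by rw [cfix_character]; exact_mod_cast hb⟩

theorem cfix_eq_of_constituent [Fintype Γ] {χ ψ : Γ → ℂ} (hχ : IsCharacter Γ χ)
    (hψ : IsIrrCharacter Γ ψ) (h : classInner χ ψ ≠ 0) {D E : Subgroup Γ} (hDE : D ≤ E)
    (he : cfix χ E = cfix χ D) : cfix ψ E = cfix ψ D := by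
  obtain ⟨a, b, h1, h2⟩ := cfix_anti hψ.isCharacter hDE
  obtain ⟨c, d, h3, h4⟩ := cfix_anti (hχ.sub_of_classInner_ne_zero hψ h) hDE
  rw [cfix_sub] at h3 h4
  have : ((b + d : ℕ) : ℂ) = 0 := by push_cast; linear_combination h3 - h4 + h1 - h2 - he
  rw [h1, h2, show b = 0 by have := Nat.cast_eq_zero.mp this; omega, Nat.cast_zero, add_zero]

theorem le_charKer_of_cfix {χ : Γ → ℂ} (hχ : IsCharacter Γ χ) {K : Subgroup Γ}
    (h : cfix χ K = χ 1) : K ≤ charKer χ := by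
  obtain ⟨n, ρ, rfl⟩ := hχ
  rw [cfix_character, ← cfix_bot ρ.character, cfix_character, fixDim_bot] at h
  rw [charKer_rep]
  exact (fixDim_eq_iff ρ K).mp (by exact_mod_cast h)

theorem cfix_indFun [Fintype Γ] {T A : Subgroup Γ} (h : ∀ g : Γ, ∃ a ∈ A, ∃ t ∈ T, g = a * t)
    {ψ : T → ℂ} (hψ : IsClassFunction T ψ) :
    cfix (indFun T ψ) A = cfix ψ (A.subgroupOf T) := by
  classical
  have h1 : (fun a : A => indFun T ψ a) = indFun (T.subgroupOf A)
      (fun x => ψ ⟨(x : A), mem_subgroupOf.mp x.2⟩) :=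
    funext fun a => indFun_res_of_mul_eq T A h hψ a
  rw [cfix_eq_classInner, h1, classInner_indFun_left _ _ isCharacter_one.isClassFunction,
    cfix_eq_classInner]
  let e : ↥(T.subgroupOf A) ≃* ↥(A.subgroupOf T) :=
    { toFun := fun x => ⟨⟨(x : A), mem_subgroupOf.mp x.2⟩, (x : A).2⟩
      invFun := fun x => ⟨⟨(x : T), mem_subgroupOf.mp x.2⟩, (x : T).2⟩
      left_inv := fun _ => rfl
      right_inv := fun _ => rfl
      map_mul' := fun _ _ => rfl }
  rw [← classInner_comp_equiv e]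
  rfl

/-- The case of defect zero. -/
theorem le_charKer_of_dvd {K R : Subgroup Γ} (hR : (Nat.card R).Prime)
    (hΓ : ¬ Nat.card R ^ 2 ∣ Nat.card Γ) (hK : K ≤ 𝐂 R) (c : (Nat.card R).Coprime (Nat.card K))
    {χ : Γ → ℂ} (hχ : IsIrrCharacter Γ χ) {d : ℕ} (hd : χ 1 = d) (hr : Nat.card R ∣ d)
    (h : cfix χ (K ⊔ R) = cfix χ R) : K ≤ charKer χ := by
  obtain ⟨t, ht⟩ := irr_degree_dvd_card hχ hd
  have h0 : ∀ x ∈ R, x ≠ 1 → ∀ k ∈ K, χ (k * x) = 0 := fun x hx hx1 k hk => by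
    refine Brauer.irr_apply_eq_zero_of_defect_zero hχ hR hd ht
      (fun c => hΓ (by rw [ht, sq]; exact Nat.mul_dvd_mul hr c)) ?_
    rw [(show Commute k x from (hK hk x hx).symm).orderOf_mul_eq_mul_orderOf_of_coprime
      (Coprime.orderOf_coprime_of_mem c hx hk).symm]
    refine Dvd.dvd.mul_left ?_ _
    rcases (Nat.dvd_prime hR).mp (Subgroup.orderOf_dvd_natCard R hx) with e | e
    · exact absurd (orderOf_eq_one_iff.mp e) hx1
    · rw [e]
  have h1 := cfix_sdprod (le_normalizer_of_le_centralizer (le_centralizer_iff.mp hK))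
    (by rw [inf_comm]; exact inf_eq_bot_of_coprime c) (f := χ) fun x hx hx1 k hk => by
      rw [h0 x hx hx1 k hk, ← h0 x hx hx1 1 K.one_mem, one_mul]
  exact le_charKer_of_cfix hχ.isCharacter (by rw [h] at h1; linear_combination -h1)

/-- Khukhro's trace argument. -/
theorem mem_of_conj_mem {Q F S N M : Subgroup Γ} [hQ : Q.Normal] [M.Normal]
    (hnil : Group.IsNilpotent Q) (c : (Nat.card F).Coprime (Nat.card Q)) (hfix : Q ⊓ 𝐂 F = ⊥)
    (hMN : M ≤ N) (hS : S ≤ F) (hM : ∀ y ∈ Q, (∀ f ∈ F, f * y * f⁻¹ ∈ N) → y ∈ M)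
    (hN : ∀ g ∈ Q ⊔ S, ∀ y ∈ N, g * y * g⁻¹ ∈ N)
    (hZ : ∀ w ∈ Q, (∀ y ∈ Q, ⁅w, y⁆ ∈ M) → ∀ s ∈ S, s * w * s⁻¹ * w⁻¹ ∈ N) {u : Γ} (hu : u ∈ Q)
    (h : ∀ f ∈ F, f ∉ S → f * u * f⁻¹ ∈ N) : u ∈ N := by
  let D : Subgroup Γ :=
    { carrier := {y | y ∈ Q ∧ ∀ f ∈ F, f ∉ S → f * y * f⁻¹ ∈ N}
      one_mem' := ⟨Q.one_mem, fun f _ _ => by simp⟩
      mul_mem' := fun {a b} ha hb => ⟨Q.mul_mem ha.1 hb.1, fun f h1 h2 => by
        simpa [mul_assoc] using N.mul_mem (ha.2 f h1 h2) (hb.2 f h1 h2)⟩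
      inv_mem' := fun {a} ha => ⟨Q.inv_mem ha.1, fun f h1 h2 => by
        simpa [mul_assoc] using N.inv_mem (ha.2 f h1 h2)⟩ }
  have hD : Q ≤ 𝐍 D := fun g hg => mem_normalizer_fintype fun y hy =>
    ⟨hQ.conj_mem y hy.1 g, fun f h1 h2 => by
      simpa [mul_assoc] using hN _ (mem_sup_left (hQ.conj_mem g hg f)) _ (hy.2 f h1 h2)⟩
  by_contra hu'
  let π := QuotientGroup.mk' M
  have hker : ∀ y, π y = 1 ↔ y ∈ M := fun y => QuotientGroup.eq_one_iff y
  have hmem : ∀ y, π y ∈ N.map π → y ∈ N := fun y hy => by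
    have : y ∈ (N.map π).comap π := hy
    rwa [comap_map_eq, QuotientGroup.ker_mk', sup_eq_left.mpr hMN] at this
  have hs : Group.IsSolvable Q := inferInstance
  obtain ⟨_, ⟨⟨w, hw, rfl⟩, hwc⟩, hw1⟩ := (Subgroup.bot_or_exists_ne_one _).resolve_left
    (PG.inf_centralizer_ne_bot_of_isNilpotent (N := D.map π) (isNilpotent_map π Q hnil)
      (map_mono (fun y (hy : y ∈ D) => hy.1)) ((map_mono hD).trans (le_normalizer_map π))
      fun e => hu' (hMN ((hker u).mp (mem_bot.mp (e.le ⟨u, ⟨hu, h⟩, rfl⟩)))))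
  have : IsMulCommutative ↥(Q.map π ⊓ 𝐂 (Q.map π)) :=
    ⟨⟨fun a b => Subtype.ext (b.2.2 a a.2.1)⟩⟩
  have := hQ.map π (QuotientGroup.mk'_surjective M)
  have h1 := pow_mem_of_norm (Z := Q.map π ⊓ 𝐂 (Q.map π)) (A := F.map π) (K := N.map π)
    (le_normalizer_of_normal _ _) (by
      rw [eq_bot_iff, ← map_bot π, ← hfix,
        Coprime.map_inf_centralizer π (le_normalizer_of_normal _ _) c (Or.inr hs)]
      exact inf_le_inf_right _ inf_le_left) (map_mono hS) (z := π w) ⟨⟨w, hw.1, rfl⟩, hwc⟩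
    (by
      rintro _ ⟨a, ha, rfl⟩ h2
      exact ⟨_, hw.2 a ha fun e => h2 ⟨a, e, rfl⟩, by simp⟩)
    (by
      rintro _ ⟨s, hs, rfl⟩
      refine ⟨_, hZ w hw.1 (fun y hy => (hker _).mp ?_) s hs, by simp⟩
      rw [map_commutatorElement, commutatorElement_eq_one_iff_mul_comm]
      exact (hwc _ ⟨y, hy, rfl⟩).symm)
  rw [← map_pow] at h1
  have h2 : w ∈ N := by
    obtain ⟨m, hm⟩ := exists_pow_eq_self_of_coprime (x := w) (n := Nat.card (S.map π))
      ((c.coprime_dvd_left ((Subgroup.card_map_dvd _ _).trans (card_dvd_of_le hS))).coprime_dvd_right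
        (Subgroup.orderOf_dvd_natCard Q hw.1))
    exact hm ▸ N.pow_mem (hmem _ h1) m
  refine hw1 ((hker w).mpr (hM w hw.1 fun f hf => ?_))
  by_cases e : f ∈ S
  · exact hN f (mem_sup_right e) w h2
  · exact hw.2 f hf e

omit [Finite Γ] in
theorem centralizer_eq_of_prime {R : Subgroup Γ} (hR : (Nat.card R).Prime) {x : Γ} (hx : x ∈ R)
    (h1 : x ≠ 1) : centralizer ({x} : Set Γ) = 𝐂 R := by
  have : Finite R := Nat.finite_of_card_ne_zero hR.ne_zero
  have e : zpowers x = R := by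
    refine eq_of_le_of_card_ge (zpowers_le.mpr hx) ?_
    rcases (Nat.dvd_prime hR).mp (card_dvd_of_le (zpowers_le.mpr hx)) with h | h
    · exact absurd (zpowers_eq_bot.mp (card_eq_one.mp h)) h1
    · exact h.ge
  rw [← e, zpowers_eq_closure, centralizer_closure]

/-- A constituent of `χ_Q` moved by `R` is trivial on `K`. -/
theorem le_charKer_of_not_le_inertia {Q R K : Subgroup Γ} [Q.Normal] [Fintype Q]
    (hR : (Nat.card R).Prime) (c : (Nat.card R).Coprime (Nat.card Q)) (hK : K ≤ Q ⊓ 𝐂 R)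
    {χ : Γ → ℂ} (hχ : IsCharacter Γ χ) (h : cfix χ (K ⊔ R) = cfix χ R) {θ : Q → ℂ}
    (hθ : IsIrrCharacter Q θ) (hc : classInner (fun n : Q => χ n) θ ≠ 0)
    (hn : ¬ R ≤ inertia Q θ) : K.subgroupOf Q ≤ charKer θ := by
  have := Fintype.ofFinite ↥(Q ⊔ R)
  have hQ : Q ≤ Q ⊔ R := le_sup_left
  have hRL : R ≤ Q ⊔ R := le_sup_right
  have hKL : K ≤ Q ⊔ R := hK.trans (inf_le_left.trans hQ)
  have hcard : Nat.card ↥(Q ⊔ R) = Nat.card Q * Nat.card R :=
    Coprime.card_sup (le_normalizer_of_normal _ _)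
      (disjoint_iff.mpr (inf_eq_bot_of_coprime c.symm))
  obtain ⟨η, hη, h1, h2⟩ := exists_irr_between hQ hχ hθ hc
  obtain ⟨e, he⟩ := (hη.isCharacter.res_le hQ).exists_nat_classInner hθ.isCharacter
  obtain ⟨d, -, hd⟩ := hθ.exists_nat_degree_pos
  have h3 := clifford_degree_le hQ hη hθ h2
  have h4 : (inertia Q θ).relIndex (Q ⊔ R) = Nat.card R := by
    refine ((Nat.dvd_prime hR).mp ?_).resolve_left fun e => hn (hRL.trans (relIndex_eq_one.mp e))
    refine (relIndex_dvd_of_le_left _ (le_inertia hθ.isClassFunction)).trans (dvd_of_eq ?_)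
    have := card_mul_index (Q.subgroupOf (Q ⊔ R))
    rw [hcard, card_subgroupOf_of_le hQ] at this
    exact Nat.eq_of_mul_eq_mul_left Nat.card_pos this
  rw [he, hd, h4] at h3
  have h5 := le_charKer_of_dvd (K := K.subgroupOf (Q ⊔ R)) (R := R.subgroupOf (Q ⊔ R))
    (by rwa [card_subgroupOf_of_le hRL])
    (by
      rw [card_subgroupOf_of_le hRL, hcard, sq]
      exact fun c' => hR.one_lt.ne' (c.eq_one_of_dvd (Nat.dvd_of_mul_dvd_mul_right hR.pos c')))
    (fun x hx y hy => Subtype.ext ((hK hx).2 y hy))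
    (by
      rw [card_subgroupOf_of_le hRL, card_subgroupOf_of_le hKL]
      exact c.coprime_dvd_right (card_dvd_of_le (hK.trans inf_le_left)))
    hη (d := e * Nat.card R * d) (by rw [h3]; push_cast; rfl)
    (by rw [card_subgroupOf_of_le hRL]; exact (dvd_mul_left _ _).mul_right _)
    (cfix_eq_of_constituent (hχ.res _) hη h1 le_sup_right (by
      rw [← subgroupOf_sup hKL hRL, cfix_subgroupOf _ (sup_le hKL hRL), cfix_subgroupOf _ hRL, h]))
  refine fun x hx => (hη.isCharacter.res_le hQ).charKer_le_of_classInner_ne_zero hθ h2 fun y => ?_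
  exact h5 (x := ⟨x, hQ x.2⟩) hx ⟨y, hQ y.2⟩

theorem le_charKer_irr {Q F R K : Subgroup Γ} [hQ : Q.Normal] (hR : (Nat.card R).Prime)
    (htop : Q ⊔ (F ⊔ R) = ⊤) (hRF : R ≤ 𝐍 F) (hnil : Group.IsNilpotent Q)
    (cFQ : (Nat.card F).Coprime (Nat.card Q)) (cRQ : (Nat.card R).Coprime (Nat.card Q))
    (cRF : (Nat.card R).Coprime (Nat.card F)) (hfix : Q ⊓ 𝐂 F = ⊥)
    (hZ : ∀ S ≤ F ⊓ 𝐂 R, S ≠ ⊥ → S = F ⊓ 𝐂 R) (hK : K ≤ Q ⊓ 𝐂 R) {χ : Γ → ℂ}
    (hχ : IsIrrCharacter Γ χ) (h0 : cfix χ F = 0) (h : cfix χ (K ⊔ R) = cfix χ R) :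
    K ≤ charKer χ := by
  classical
  have := Fintype.ofFinite Γ
  have hKQ : K ≤ Q := hK.trans inf_le_left
  have hΓ : ¬ Nat.card R ^ 2 ∣ Nat.card Γ := by
    rw [← card_top (G := Γ), ← htop, Coprime.card_sup (le_normalizer_of_normal _ _) (disjoint_iff.mpr
      (inf_eq_bot_of_coprime (coprime_card_sup hRF cFQ.symm cRQ.symm))), Coprime.card_sup hRF
      (disjoint_iff.mpr (inf_eq_bot_of_coprime cRF.symm)), ← mul_assoc, sq]
    exact fun c' => hR.one_lt.ne' ((cRQ.mul_right cRF).eq_one_of_dvd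
      (Nat.dvd_of_mul_dvd_mul_right hR.pos c'))
  obtain ⟨d, -, hd⟩ := hχ.exists_nat_degree_pos
  by_cases hr : Nat.card R ∣ d
  · exact le_charKer_of_dvd hR hΓ (hK.trans inf_le_right)
      (cRQ.coprime_dvd_right (card_dvd_of_le hKQ)) hχ hd hr h
  have hA := fun θ => le_charKer_of_not_le_inertia (θ := θ) hR cRQ hK hχ.isCharacter h
  have hres : ∀ y : Q, (∀ θ, IsIrrCharacter Q θ → classInner (fun n : Q => χ n) θ ≠ 0 →
      y ∈ charKer θ) → (y : Γ) ∈ charKer χ := fun y hy => by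
    have := (hχ.isCharacter.res Q).mem_charKer_iff_forall.mpr hy
    rwa [hχ.isCharacter.charKer_res] at this
  refine fun u hu => hres ⟨u, hKQ hu⟩ fun θ hθ hc => ?_
  by_cases hRT : R ≤ inertia Q θ
  swap
  · exact hA θ hθ hc hRT hu
  set T := inertia Q θ with hT
  have hQT : Q ≤ T := le_inertia hθ.isClassFunction
  have hdec : ∀ g : Γ, ∃ a ∈ F, ∃ t ∈ T, g = a * t := fun g => by
    have hg : g ∈ (F ⊔ R) ⊔ Q := by rw [sup_comm, htop]; exact mem_top g
    obtain ⟨_, hb, n, hn, rfl⟩ := mem_sup_of_normal_right.mp hg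
    obtain ⟨a, ha, x, hx, rfl⟩ := (Coprime.mem_sup_iff hRF).mp hb
    exact ⟨a, ha, x * n, T.mul_mem (hRT hx) (hQT hn), mul_assoc _ _ _⟩
  obtain ⟨ψ, hψ, hind, -⟩ := clifford_exists_indFun_eq hQT le_rfl hθ hχ hc
  have hC : F ⊓ 𝐂 R ≤ T := by
    by_contra c
    have e : (F ⊓ 𝐂 R) ⊓ T = ⊥ := by
      by_contra c'
      exact c ((hZ _ inf_le_left c').ge.trans inf_le_right)
    have h1 := cfix_frobenius (K := F.subgroupOf T) (R := R.subgroupOf T)
      (fun x hx => mem_normalizer_fintype fun y hy => (mem_normalizer_iff.mp (hRF hx) y).mp hy)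
      (fun x hx hx1 => by
        refine eq_bot_iff.mpr fun y hy => mem_bot.mpr (Subtype.ext (mem_bot.mp (e.le ⟨⟨hy.1, ?_⟩, y.2⟩)))
        rw [← centralizer_eq_of_prime hR hx fun e => hx1 (Subtype.ext e)]
        rintro _ rfl
        exact congrArg Subtype.val (hy.2 x rfl)) hψ.isClassFunction
    rw [← cfix_indFun hdec hψ.isClassFunction, hind, h0, card_subgroupOf_of_le hRT] at h1
    obtain ⟨a, ha⟩ := exists_nat_cfix hψ.isCharacter (F.subgroupOf T ⊔ R.subgroupOf T)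
    obtain ⟨b, hb⟩ := exists_nat_cfix hψ.isCharacter (R.subgroupOf T)
    obtain ⟨m, -, hm⟩ := hψ.exists_nat_degree_pos
    rw [ha, hb, hm, zero_add] at h1
    have h2 : Nat.card R * a + m = Nat.card R * b := by exact_mod_cast h1
    have h3 := indFun_one T ψ
    rw [hind, hd, hm] at h3
    have h4 : d = T.index * m := by exact_mod_cast h3
    exact hr (h4 ▸ ((Nat.dvd_add_right (dvd_mul_right _ _)).mp
      (h2 ▸ dvd_mul_right _ _)).mul_left _)
  have := hχ.charKer_normal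
  have hmem : ∀ (y : Γ) (hy : y ∈ Q), y ∈ (charKer θ).map Q.subtype ↔ θ ⟨y, hy⟩ = θ 1 :=
    fun y hy => by
      rw [← hθ.mem_charKer_iff]
      exact mem_map_iff_mem (x := (⟨y, hy⟩ : Q)) Q.subtype_injective
  have hker : ∀ (g : Γ) (y : Q), y ∈ charKer (conjChar Q θ g) ↔
      g * y * g⁻¹ ∈ (charKer θ).map Q.subtype := fun g y => by
    rw [(hθ.conjChar g).mem_charKer_iff, hmem _ (hQ.conj_mem _ y.2 g), conjChar_apply_one,
      conjChar_apply]
  have hMN : Q ⊓ charKer χ ≤ (charKer θ).map Q.subtype := fun y hy =>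
    ⟨⟨y, hy.1⟩, (hχ.isCharacter.res Q).charKer_le_of_classInner_ne_zero hθ hc
      (by rw [hχ.isCharacter.charKer_res]; exact hy.2), rfl⟩
  rw [hθ.mem_charKer_iff, ← hmem]
  refine mem_of_conj_mem (S := F ⊓ T) hnil cFQ hfix hMN inf_le_left (fun y hy h1 => ⟨hy, ?_⟩)
    (fun g hg y hy => ?_) (fun w hw h1 s hs => ?_) (hKQ hu) fun f hf hfT => ?_
  · refine hres ⟨y, hy⟩ fun φ hφ hc' => ?_
    obtain ⟨g, rfl⟩ := exists_conjChar_eq_of_lies_over hχ hθ hφ hc hc'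
    obtain ⟨a, ha, t, ht, e⟩ := hdec g⁻¹
    rw [inv_eq_iff_eq_inv.mp e, mul_inv_rev, conjChar_mul_of_mem (T.inv_mem ht), hker]
    exact h1 _ (F.inv_mem ha)
  · obtain ⟨y, hy, rfl⟩ := hy
    exact (hker g y).mp (by rwa [mem_inertia.mp (sup_le hQT inf_le_right hg)])
  · have h2 : (⟨w, hw⟩ : Q)⁻¹ ∈ charCenter θ := inv_mem (hθ.mem_charCenter_iff_commutator.mpr
      fun x => (mem_map_iff_mem Q.subtype_injective).mp (hMN (h1 x x.2)))
    have h3 := apply_mul_of_mem_charCenter h2 ⟨_, hQ.conj_mem w hw s⟩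
    rw [mem_inertia'.mp hs.2 ⟨w, hw⟩, ← apply_mul_of_mem_charCenter h2, inv_mul_cancel,
      hθ.isClassFunction.apply_mul_comm] at h3
    exact (hmem _ (Q.mul_mem (hQ.conj_mem w hw s) (Q.inv_mem hw))).mpr
      (mul_left_cancel₀ hθ.apply_one_ne_zero h3)
  · refine (hker f ⟨u, hKQ hu⟩).mp (hA _ (hθ.conjChar f)
      (by rwa [classInner_res_conjChar hχ.isClassFunction]) (fun c => hfT ⟨hf, ?_⟩) hu)
    have := Tur.isMulCommutative_of_prime hR
    obtain ⟨y, hy, h2⟩ := Coprime.exists_mul_mem_centralizer (A := R) (H := F ⊓ T)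
      (le_normalizer_inf hRF (hRT.trans le_normalizer))
      (cRF.coprime_dvd_right (card_dvd_of_le inf_le_left))
      (Or.inl (Coprime.isSolvable_of_isMulCommutative R)) (g := f⁻¹) fun a ha => ⟨by
        rw [inv_inv]
        exact F.mul_mem hf ((mem_normalizer_iff.mp (hRF ha) _).mp (F.inv_mem hf)), by
        simpa [mul_assoc] using T.mul_mem (mem_inertia_conjChar.mp (c ha)) (T.inv_mem (hRT ha))⟩
    simpa using T.mul_mem hy.2 (T.inv_mem (hC ⟨F.mul_mem (F.inv_mem hf) hy.1, h2⟩))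

/-- The kernel of `C_Q(R)` on `C_M(R)` acts trivially on `M`. -/
theorem le_centralizer_of_fix {Q F R K M : Subgroup Γ} (hR : (Nat.card R).Prime) (hFQ : F ≤ 𝐍 Q)
    (hRQ : R ≤ 𝐍 Q) (hRF : R ≤ 𝐍 F) (hnil : Group.IsNilpotent Q)
    (cFQ : (Nat.card F).Coprime (Nat.card Q)) (cRQ : (Nat.card R).Coprime (Nat.card Q))
    (cRF : (Nat.card R).Coprime (Nat.card F)) (hfix : Q ⊓ 𝐂 F = ⊥)
    (hZ : ∀ S ≤ F ⊓ 𝐂 R, S ≠ ⊥ → S = F ⊓ 𝐂 R) (hK : K ≤ Q ⊓ 𝐂 R) (hQM : Q ≤ 𝐍 M)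
    (hFM : F ≤ 𝐍 M) (hRM : R ≤ 𝐍 M) (hM : Group.IsSolvable M)
    (cQ : (Nat.card M).Coprime (Nat.card Q)) (cF : (Nat.card M).Coprime (Nat.card F))
    (cR : (Nat.card M).Coprime (Nat.card R)) (hMF : M ⊓ 𝐂 F = ⊥) (hMK : M ⊓ 𝐂 R ≤ 𝐂 K) :
    K ≤ 𝐂 M := by
  set L : Subgroup Γ := Q ⊔ (F ⊔ R) with hL
  have hQL : Q ≤ L := le_sup_left
  have hFL : F ≤ L := le_sup_left.trans le_sup_right
  have hRL : R ≤ L := le_sup_right.trans le_sup_right
  have hKL : K ≤ L := hK.trans (inf_le_left.trans hQL)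
  have := Fintype.ofFinite L
  have := Coprime.normal_subgroupOf_sup (sup_le hFQ hRQ)
  obtain ⟨l, hl1, hl2⟩ := exists_lift_family L.subtype M
    (fun a => (sup_le hQM (sup_le hFM hRM)) a.2) hM
    (coprime_card_sup (sup_le hFQ hRQ) cQ (coprime_card_sup hRF cF cR))
  have h1 := Tur.list_eq_of_prod_eq (l := l) (p := Prod.fst)
    (a := fun x : ℕ × (Subgroup L → ℕ) => x.2 (K.subgroupOf L ⊔ R.subgroupOf L))
    (b := fun x : ℕ × (Subgroup L → ℕ) => x.2 (R.subgroupOf L))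
    (fun y hy => (hl1 y hy).1.one_lt) (fun y hy => by
      obtain ⟨-, ⟨n, τ, hτ⟩, -⟩ := hl1 y hy
      simp only [hτ]
      exact Submodule.finrank_mono (fixSp_anti τ le_sup_right)) (by
      rw [← hl2, ← hl2, ← subgroupOf_sup hKL hRL, map_subgroupOf_eq_of_le hRL,
        map_subgroupOf_eq_of_le (sup_le hKL hRL), centralizer_sup']
      exact card_le_of_le (le_inf inf_le_left (le_inf hMK inf_le_right)))
  have h2 : ∀ x ∈ l, x.2 (K.subgroupOf L) = x.2 ⊥ := fun x hx => by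
    have h3 := hl2 (F.subgroupOf L)
    rw [map_subgroupOf_eq_of_le hFL, hMF, Subgroup.card_bot] at h3
    have h4 := list_prod_pow_eq_one (p := Prod.fst) (a := fun x : ℕ × (Subgroup L → ℕ) => x.2 _)
      (fun y hy => (hl1 y hy).1) h3.symm x hx
    have h5 := h1 x hx
    obtain ⟨-, ⟨n, τ, hτ⟩, -⟩ := hl1 x hx
    simp only [hτ] at h4 h5 ⊢
    rw [fixDim_bot, fixDim_eq_iff, ← charKer_rep]
    refine le_charKer_of_forall_constituent (isCharacter_rep τ) fun ψ hψ hc => ?_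
    refine le_charKer_irr (Q := Q.subgroupOf L) (F := F.subgroupOf L) (R := R.subgroupOf L)
      (by rwa [card_subgroupOf_of_le hRL])
      (by rw [← subgroupOf_sup hFL hRL, ← subgroupOf_sup hQL (sup_le hFL hRL), subgroupOf_self])
      (le_normalizer_subgroupOf_of_le L hFL hRF)
      (Group.nilpotent_of_mulEquiv (subgroupOfEquivOfLe hQL).symm)
      (by rwa [card_subgroupOf_of_le hFL, card_subgroupOf_of_le hQL])
      (by rwa [card_subgroupOf_of_le hRL, card_subgroupOf_of_le hQL])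
      (by rwa [card_subgroupOf_of_le hRL, card_subgroupOf_of_le hFL])
      (by rw [subgroupOf_inf_centralizer hFL, hfix, bot_subgroupOf]) (fun S hS h0 => ?_)
      (by rw [subgroupOf_inf_centralizer hRL]; exact subgroupOf_mono _ hK) hψ
      (cfix_eq_zero_of_constituent (isCharacter_rep τ) hψ hc (by rw [cfix_character, h4]; simp))
      (cfix_eq_of_constituent (isCharacter_rep τ) hψ hc le_sup_right
        (by rw [cfix_character, cfix_character, h5]))
    rw [subgroupOf_inf_centralizer hRL] at hS ⊢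
    rw [← hZ (S.map L.subtype) (map_le_iff_le_comap.mpr hS)
      (by rwa [Ne, map_eq_bot_iff_of_injective _ L.subtype_injective])]
    exact (comap_map_eq_self_of_injective L.subtype_injective S).symm
  have h3 := hl2 (K.subgroupOf L)
  rw [List.map_congr_left fun x hx => by rw [h2 x hx], ← hl2, map_subgroupOf_eq_of_le hKL] at h3
  rw [le_centralizer_iff, ← inf_eq_left]
  refine eq_of_le_of_card_ge inf_le_left (h3.ge.trans' (card_le_of_le (le_inf le_rfl ?_)))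
  rw [Subgroup.map_bot]
  rintro y - z rfl
  simp

end Cfsg.Lib.FPFC
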